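import Mathlib

/-!
# Extending a rational map at a normal point isolated in the graph
-/

set_option autoImplicit false
set_option backward.isDefEq.respectTransparency.types false
set_option linter.style.haveILetI false
universe u

open AlgebraicGeometry CategoryTheory CategoryTheory.Limits TopologicalSpace IsLocalRing

namespace Groth.Agent.NormalExt

/-- Zariski's main theorem, for a birational algebra with one prime over the closed point -/
theorem subalgebra_eq_bot {A K : Type u} [CommRing A] [IsDomain A] [IsLocalRing A] [IsIntegrallyClosed A]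
    [Field K] [Algebra A K] [IsFractionRing A K] (B : Subalgebra A K) (hfg : B.FG) (Q : Ideal B) [Q.IsPrime]
    (hQ : Q.comap (algebraMap A B) = maximalIdeal A)
    (huniq : ∀ Q' : Ideal B, Q'.IsPrime → Q'.comap (algebraMap A B) = maximalIdeal A → Q' = Q) : B = ⊥ := by
  classical
  haveI : Algebra.FiniteType A B := B.fg_iff_finiteType.1 hfg
  haveI : Q.IsMaximal := by
    obtain ⟨M, hM, hle⟩ := Ideal.exists_le_maximal Q (Ideal.IsPrime.ne_top inferInstance)
    haveI := hM.isPrime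
    have h1 : M.comap (algebraMap A B) = maximalIdeal A :=
      le_antisymm (le_maximalIdeal (Ideal.IsPrime.comap _ : (M.comap (algebraMap A B)).IsPrime).ne_top)
        (hQ ▸ Ideal.comap_mono hle)
    exact huniq M inferInstance h1 ▸ hM
  let m := Q.under A
  have hm : m = maximalIdeal A := hQ
  haveI : m.IsMaximal := hm ▸ inferInstance
  let F := B ⧸ m.map (algebraMap A B)
  let q := Q.map (Ideal.Quotient.mk (m.map (algebraMap A B)))
  have hle : m.map (algebraMap A B) ≤ Q := Ideal.map_comap_le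
  haveI hqp : q.IsPrime := Ideal.map_isPrime_of_surjective Ideal.Quotient.mk_surjective (by rwa [Ideal.mk_ker])
  haveI : Algebra.FiniteType (A ⧸ m) F := Algebra.FiniteType.of_restrictScalars_finiteType A _ _
  letI : Field (A ⧸ m) := Ideal.Quotient.field m
  have hopen : IsOpen ({⟨q, hqp⟩} : Set (PrimeSpectrum F)) := by
    have huniv : ({⟨q, hqp⟩} : Set (PrimeSpectrum F)) = Set.univ := by
      refine Set.eq_univ_of_forall fun P => PrimeSpectrum.ext ?_
      let P' := P.asIdeal.comap (Ideal.Quotient.mk (m.map (algebraMap A B)))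
      have hP' : P'.comap (algebraMap A B) = maximalIdeal A := by
        refine ((maximalIdeal.isMaximal A).eq_of_le (Ideal.IsPrime.comap _ : (P'.comap (algebraMap A B)).IsPrime).ne_top ?_).symm
        intro a ha
        show Ideal.Quotient.mk _ (algebraMap A B a) ∈ P.asIdeal
        rw [Ideal.Quotient.eq_zero_iff_mem.2 (Ideal.mem_map_of_mem _ (show a ∈ m from hm.symm ▸ ha))]
        exact P.asIdeal.zero_mem
      show P.asIdeal = q
      rw [← Ideal.map_comap_of_surjective _ Ideal.Quotient.mk_surjective P.asIdeal,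
        show P.asIdeal.comap (Ideal.Quotient.mk (m.map (algebraMap A B))) = P' from rfl,
        huniq P' inferInstance hP']
    rw [huniv]; exact isOpen_univ
  haveI : Algebra.QuasiFiniteAt (A ⧸ m) q :=
    Algebra.QuasiFiniteAt.of_isOpen_singleton (⟨q, hqp⟩ : PrimeSpectrum F) hopen
  haveI : Algebra.WeaklyQuasiFiniteAt A Q := by
    show Algebra.QuasiFinite A (Localization.AtPrime q)
    exact Algebra.QuasiFinite.trans A (A ⧸ m) _
  obtain ⟨r, hr, hrint, hx⟩ := Algebra.zariskisMainProperty_iff.1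
    (Algebra.ZariskisMainProperty.of_finiteType_of_weaklyQuasiFiniteAt (R := A) Q)
  have key : ∀ b : B, IsIntegral A b → b ∈ (algebraMap A B).range := fun b hb => by
    obtain ⟨a, ha⟩ := IsIntegrallyClosed.isIntegral_iff.1 (hb.map (IsScalarTower.toAlgHom A B K))
    exact ⟨a, Subtype.ext ha⟩
  obtain ⟨r₀, rfl⟩ := key r hrint
  have hu : IsUnit r₀ := by
    by_contra h
    exact hr (show r₀ ∈ Q.comap (algebraMap A B) by rw [hQ]; exact h)
  refine eq_bot_iff.2 fun b hb => ?_
  obtain ⟨k, hk⟩ := hx ⟨b, hb⟩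
  obtain ⟨a, ha⟩ := key _ hk
  obtain ⟨i, hi⟩ := (hu.pow k).exists_left_inv
  refine Algebra.mem_bot.2 ⟨i * a, ?_⟩
  have h2 : algebraMap A B (i * a) = ⟨b, hb⟩ := by
    rw [map_mul, ha, ← mul_assoc, ← map_pow, ← map_mul, hi, map_one, one_mul]
  exact congrArg Subtype.val h2

set_option maxHeartbeats 1000000 in
/-- a rational map extends at a normal point isolated in the fibre of the closure of its graph -/
theorem exists_extension {X Y S : Scheme.{u}} (pX : X ⟶ S) (pY : Y ⟶ S)
    [LocallyOfFiniteType pY] [IsSeparated pY] (W0 : X.Opens) [AlgebraicGeometry.IsIntegral (W0 : Scheme.{u})]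
    (U : X.Opens) (h : (U : Scheme.{u}) ⟶ Y) (hh : U.ι ≫ pX = h ≫ pY)
    (z : ↥(pullback pX pY)) (hx0 : pullback.fst pX pY z ∈ W0)
    (hx : IsIntegrallyClosed (X.presheaf.stalk (pullback.fst pX pY z)))
    (hzΓ : z ∈ closure (Set.range (pullback.lift U.ι h hh)))
    (hiso : ∃ W : (pullback pX pY).Opens, z ∈ W ∧ ∀ w ∈ W, w ∈ closure (Set.range (pullback.lift U.ι h hh)) →
      pullback.fst pX pY w = pullback.fst pX pY z → w = z) :
    ∃ (V : X.Opens) (v : (V : Scheme.{u}) ⟶ Y), pullback.fst pX pY z ∈ V ∧ v ≫ pY = V.ι ≫ pX ∧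
      X.homOfLE (inf_le_right : U ⊓ V ≤ V) ≫ v = X.homOfLE (inf_le_left : U ⊓ V ≤ U) ≫ h ∧
      ∀ w : (V : Scheme.{u}), V.ι w = pullback.fst pX pY z → v w = pullback.snd pX pY z := by
  let fst := pullback.fst pX pY
  let x := fst z
  obtain ⟨W, hzW, hW⟩ := hiso
  obtain ⟨V0, hV0, hxV0, hV0W⟩ := exists_isAffineOpen_mem_and_subset (X := X) (x := x) (U := W0) hx0
  haveI : Nonempty (V0 : Scheme.{u}) := ⟨⟨x, hxV0⟩⟩
  haveI : AlgebraicGeometry.IsIntegral (V0 : Scheme.{u}) := isIntegral_of_isOpenImmersion (X.homOfLE hV0W)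
  haveI : Nonempty (Spec Γ(X, V0)) := ⟨hV0.isoSpec.hom ⟨x, hxV0⟩⟩
  haveI : AlgebraicGeometry.IsIntegral (Spec Γ(X, V0)) := isIntegral_of_isOpenImmersion hV0.isoSpec.inv
  haveI : IsDomain Γ(X, V0) := (affine_isIntegral_iff _).1 ‹_›
  let A0 := Γ(X, V0)
  let K := FractionRing A0
  let p := (hV0.primeIdealOf ⟨x, hxV0⟩).asIdeal
  let A := Localization.AtPrime p
  have hpu : ∀ s : p.primeCompl, IsUnit (algebraMap A0 K s) := fun s =>
    isUnit_iff_ne_zero.2 ((map_ne_zero_iff _ (IsFractionRing.injective A0 K)).2 fun h0 => s.2 (h0 ▸ p.zero_mem))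
  letI : Algebra A K := (IsLocalization.lift (M := p.primeCompl) hpu : A →+* K).toAlgebra
  haveI : IsScalarTower A0 A K := .of_algebraMap_eq fun r => (IsLocalization.lift_eq hpu r).symm
  haveI : IsDomain A := IsLocalization.isDomain_localization p.primeCompl_le_nonZeroDivisors
  haveI : IsFractionRing A K := IsFractionRing.isFractionRing_of_isDomain_of_isLocalization p.primeCompl A K
  letI := TopCat.Presheaf.algebra_section_stalk X.presheaf (⟨x, hxV0⟩ : V0)
  haveI : IsLocalization.AtPrime (X.presheaf.stalk x) p := hV0.isLocalization_stalk ⟨x, hxV0⟩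
  let e : A ≃ₐ[A0] X.presheaf.stalk x := IsLocalization.algEquiv p.primeCompl A (X.presheaf.stalk x)
  haveI : IsDomain (X.presheaf.stalk x) := e.symm.toRingEquiv.toMulEquiv.isDomain
  haveI : IsIntegrallyClosed (X.presheaf.stalk x) := hx
  haveI : IsIntegrallyClosed A := IsIntegrallyClosed.of_equiv e.symm.toRingEquiv
  -- the generic point
  let ιη : Spec (CommRingCat.of K) ⟶ X := Spec.map (CommRingCat.ofHom (algebraMap A0 K)) ≫ hV0.fromSpec
  let η := ιη (closedPoint K)
  have hηgen : ∀ u : X, u ∈ V0 → η ⤳ u := fun u hu => by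
    have h1 : Spec.map (CommRingCat.ofHom (algebraMap A0 K)) (closedPoint K) ⤳ hV0.primeIdealOf ⟨u, hu⟩ := by
      refine (PrimeSpectrum.le_iff_specializes _ _).1 ?_
      show Ideal.comap (algebraMap A0 K) (maximalIdeal K) ≤ _
      rw [IsLocalRing.maximalIdeal_eq_bot, ← RingHom.ker_eq_comap_bot,
        (RingHom.injective_iff_ker_eq_bot _).1 (IsFractionRing.injective A0 K)]
      exact bot_le
    have h2 := h1.map hV0.fromSpec.continuous
    rwa [hV0.fromSpec_primeIdealOf] at h2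
  have hηV0 : η ∈ V0 := hV0.range_fromSpec.le ⟨_, rfl⟩
  have hηU : η ∈ U := by
    obtain ⟨_, hwV, ⟨u', rfl⟩⟩ := mem_closure_iff.1 hzΓ _ (V0.isOpen.preimage fst.continuous) hxV0
    obtain ⟨u, huV, huU⟩ : ∃ u : X, u ∈ V0 ∧ u ∈ U := ⟨U.ι u', by
      have := hwV
      rwa [Set.mem_preimage, SetLike.mem_coe, ← Scheme.Hom.comp_apply, pullback.lift_fst] at this, u'.2⟩
    exact (hηgen u huV).mem_open U.isOpen huU
  let σ0 := IsOpenImmersion.lift U.ι ιη (by
    rintro _ ⟨w, rfl⟩
    rw [Scheme.Opens.range_ι, Subsingleton.elim w (closedPoint K)]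
    exact hηU)
  have hσ0 : σ0 ≫ U.ι = ιη := IsOpenImmersion.lift_fac _ _ _
  let hg := pullback.lift U.ι h hh
  let σ := σ0 ≫ hg
  have hσfst : σ ≫ fst = ιη := by rw [Category.assoc, pullback.lift_fst, hσ0]
  let γ := σ (closedPoint K)
  have hγ : γ ∈ Set.range hg := ⟨σ0 (closedPoint K), rfl⟩
  have hγz : γ ⤳ z := by
    refine specializes_iff_forall_open.2 fun N hN hzN => ?_
    have hopen : IsOpen (N ∩ fst ⁻¹' (V0 : Set X)) := hN.inter (V0.isOpen.preimage fst.continuous)
    obtain ⟨_, ⟨hwN, hwV⟩, ⟨u, rfl⟩⟩ := mem_closure_iff.1 hzΓ _ hopen ⟨hzN, hxV0⟩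
    have hu : U.ι u ∈ V0 := by
      have := hwV
      rwa [Set.mem_preimage, SetLike.mem_coe, ← Scheme.Hom.comp_apply, pullback.lift_fst] at this
    have hsp : σ0 (closedPoint K) ⤳ u := U.ι.isEmbedding.isInducing.specializes_iff.1 (by
      rw [← Scheme.Hom.comp_apply, hσ0]; exact hηgen _ hu)
    exact (hsp.map hg.continuous).mem_open hN hwN
  -- an affine chart of the graph
  obtain ⟨D, hD, hzD, hDW⟩ := exists_isAffineOpen_mem_and_subset (x := z) (U := W ⊓ fst ⁻¹ᵁ V0) ⟨hzW, hxV0⟩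
  have hle : D ≤ fst ⁻¹ᵁ V0 := fun w hw => (hDW hw).2
  have hγD : γ ∈ D := hγz.mem_open D.isOpen hzD
  let σD := IsOpenImmersion.lift hD.fromSpec σ (by
    rintro _ ⟨w, rfl⟩
    rw [hD.range_fromSpec, Subsingleton.elim w (closedPoint K)]
    exact hγD)
  let φ := Spec.preimage σD
  have hφ : Spec.map φ ≫ hD.fromSpec = σ := by rw [Spec.map_preimage]; exact IsOpenImmersion.lift_fac _ _ _
  let a := fst.appLE V0 D hle
  have hφa : a ≫ φ = CommRingCat.ofHom (algebraMap A0 K) := by
    apply Spec.map_injective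
    rw [← cancel_mono hV0.fromSpec, Spec.map_comp, Category.assoc,
      IsAffineOpen.SpecMap_appLE_fromSpec fst hV0 hD hle, reassoc_of% hφ, hσfst]
  have hφa' : ∀ r, φ.hom (a.hom r) = algebraMap A0 K r := fun r => congr($(hφa).hom r)
  let Pz := (hD.primeIdealOf ⟨z, hzD⟩).asIdeal
  have hker : ∀ d, φ.hom d = 0 → d ∈ Pz := by
    intro d hd
    have h1 : Spec.map φ (closedPoint K) ⤳ hD.primeIdealOf ⟨z, hzD⟩ := by
      refine hD.fromSpec.isOpenEmbedding.isInducing.specializes_iff.1 ?_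
      rw [hD.fromSpec_primeIdealOf, ← Scheme.Hom.comp_apply, hφ]
      exact hγz
    refine (PrimeSpectrum.le_iff_specializes _ _).2 h1 ?_
    show φ.hom d ∈ maximalIdeal K
    rw [hd]; exact zero_mem _
  have hPzp : ∀ r, r ∈ p ↔ a.hom r ∈ Pz := fun r => by
    have := congrArg PrimeSpectrum.asIdeal
      (IsAffineOpen.comap_primeIdealOf_appLE (f := fst) V0 hV0 D hD hle hzD)
    exact (SetLike.ext_iff.1 this r).symm
  -- the local algebra of the graph
  let B : Subalgebra A K := Algebra.adjoin A (Set.range φ.hom)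
  have hBfg : B.FG := by
    letI : Algebra A0 Γ(pullback pX pY, D) := a.hom.toAlgebra
    haveI : Algebra.FiniteType A0 Γ(pullback pX pY, D) := fst.finiteType_appLE hV0 hD hle
    obtain ⟨s, hs⟩ := ‹Algebra.FiniteType A0 Γ(pullback pX pY, D)›.out
    classical
    refine ⟨s.image φ.hom, le_antisymm (Algebra.adjoin_mono (by rw [Finset.coe_image]; exact Set.image_subset_range _ _)) ?_⟩
    refine Algebra.adjoin_le ?_
    rintro _ ⟨d, rfl⟩
    have hd : d ∈ Algebra.adjoin A0 (s : Set Γ(pullback pX pY, D)) := hs ▸ trivial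
    induction hd using Algebra.adjoin_induction with
    | mem d hd => exact Algebra.subset_adjoin (by rw [Finset.coe_image]; exact ⟨d, hd, rfl⟩)
    | algebraMap r =>
      show φ.hom (a.hom r) ∈ _
      rw [hφa', IsScalarTower.algebraMap_apply A0 A K]
      exact Subalgebra.algebraMap_mem _ _
    | add d d' _ _ hd hd' => rw [map_add]; exact add_mem hd hd'
    | mul d d' _ _ hd hd' => rw [map_mul]; exact mul_mem hd hd'
  have hAsurj : ∀ c : A, ∃ r, ∃ s ∈ p.primeCompl, algebraMap A K c * algebraMap A0 K s = algebraMap A0 K r := by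
    intro c
    obtain ⟨⟨r, s⟩, hrs⟩ := IsLocalization.surj p.primeCompl c
    refine ⟨r, s, s.2, ?_⟩
    rw [IsScalarTower.algebraMap_apply A0 A K, IsScalarTower.algebraMap_apply A0 A K, ← map_mul, hrs]
  have hBrep : ∀ b ∈ B, ∃ d, ∃ s ∈ p.primeCompl, b * algebraMap A0 K s = φ.hom d := by
    intro b hb
    induction hb using Algebra.adjoin_induction with
    | mem b hb =>
      obtain ⟨d, rfl⟩ := hb
      exact ⟨d, 1, Submonoid.one_mem _, by rw [map_one, mul_one]⟩
    | algebraMap c =>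
      obtain ⟨r, s, hs, hrs⟩ := hAsurj c
      exact ⟨a.hom r, s, hs, by rw [hφa', hrs]⟩
    | add b b' _ _ hb hb' =>
      obtain ⟨d, s, hs, hd⟩ := hb
      obtain ⟨d', s', hs', hd'⟩ := hb'
      refine ⟨d * a.hom s' + d' * a.hom s, s * s', mul_mem hs hs', ?_⟩
      rw [map_mul, map_add, map_mul, map_mul, hφa', hφa', ← hd, ← hd']
      ring
    | mul b b' _ _ hb hb' =>
      obtain ⟨d, s, hs, hd⟩ := hb
      obtain ⟨d', s', hs', hd'⟩ := hb'
      refine ⟨d * d', s * s', mul_mem hs hs', ?_⟩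
      rw [map_mul, map_mul, ← hd, ← hd']
      ring
  have hcons : ∀ (b : K) (d d' : Γ(pullback pX pY, D)) (s s' : A0), s ∈ p.primeCompl → s' ∈ p.primeCompl →
      b * algebraMap A0 K s = φ.hom d → b * algebraMap A0 K s' = φ.hom d' → d ∈ Pz → d' ∈ Pz := by
    intro b d d' s s' hs hs' hd hd' hmem
    have h0 : d * a.hom s' - d' * a.hom s ∈ Pz := hker _ (by
      rw [map_sub, map_mul, map_mul, hφa', hφa', ← hd, ← hd']; ring)
    have h1 : d' * a.hom s ∈ Pz := by
      have h2 := Ideal.sub_mem _ (Ideal.mul_mem_right (a.hom s') Pz hmem) h0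
      rwa [sub_sub_cancel] at h2
    exact ((hD.primeIdealOf ⟨z, hzD⟩).2.mem_or_mem h1).resolve_right fun h3 => hs ((hPzp s).2 h3)
  have hadd : ∀ (b b' : B), (∃ d ∈ Pz, ∃ s ∈ p.primeCompl, (b : K) * algebraMap A0 K s = φ.hom d) →
      (∃ d ∈ Pz, ∃ s ∈ p.primeCompl, (b' : K) * algebraMap A0 K s = φ.hom d) →
      ∃ d ∈ Pz, ∃ s ∈ p.primeCompl, ((b + b' : B) : K) * algebraMap A0 K s = φ.hom d := by
    rintro b b' ⟨d, hd0, s, hs, hd⟩ ⟨d', hd0', s', hs', hd'⟩
    refine ⟨d * a.hom s' + d' * a.hom s, add_mem (Ideal.mul_mem_right _ _ hd0) (Ideal.mul_mem_right _ _ hd0'),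
      s * s', mul_mem hs hs', ?_⟩
    rw [map_mul, map_add, map_mul, map_mul, hφa', hφa', ← hd, ← hd', Subalgebra.coe_add]; ring
  have hsmul : ∀ (c b : B), (∃ d ∈ Pz, ∃ s ∈ p.primeCompl, (b : K) * algebraMap A0 K s = φ.hom d) →
      ∃ d ∈ Pz, ∃ s ∈ p.primeCompl, ((c * b : B) : K) * algebraMap A0 K s = φ.hom d := by
    rintro c b ⟨d', hd0', s', hs', hd'⟩
    obtain ⟨d, s, hs, hd⟩ := hBrep c c.2
    refine ⟨d * d', Ideal.mul_mem_left _ _ hd0', s * s', mul_mem hs hs', ?_⟩
    rw [Subalgebra.coe_mul, map_mul, map_mul, ← hd, ← hd']; ring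
  let Q : Ideal B :=
    { carrier := {b | ∃ d ∈ Pz, ∃ s ∈ p.primeCompl, (b : K) * algebraMap A0 K s = φ.hom d}
      zero_mem' := ⟨0, zero_mem _, 1, Submonoid.one_mem _, by simp⟩
      add_mem' := fun {b b'} => hadd b b'
      smul_mem' := fun c b => hsmul c b }
  have hQiff : ∀ (b : B) d, ∀ s ∈ p.primeCompl, (b : K) * algebraMap A0 K s = φ.hom d → (b ∈ Q ↔ d ∈ Pz) :=
    fun b d s hs hd => ⟨fun ⟨d', hd0', s', hs', hd'⟩ => hcons b d' d s' s hs' hs hd' hd hd0',
      fun h0 => ⟨d, h0, s, hs, hd⟩⟩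
  haveI : Q.IsPrime := by
    refine ⟨fun htop => ?_, fun {b b'} hbb => ?_⟩
    · have := (hQiff 1 1 1 (Submonoid.one_mem _) (by simp)).1 (htop ▸ trivial)
      exact (hD.primeIdealOf ⟨z, hzD⟩).2.ne_top ((Ideal.eq_top_iff_one _).2 this)
    · obtain ⟨d, s, hs, hd⟩ := hBrep b b.2
      obtain ⟨d', s', hs', hd'⟩ := hBrep b' b'.2
      have h1 := (hQiff (b * b') (d * d') (s * s') (mul_mem hs hs') (by
        rw [Subalgebra.coe_mul, map_mul, map_mul, ← hd, ← hd']; ring)).1 hbb
      exact ((hD.primeIdealOf ⟨z, hzD⟩).2.mem_or_mem h1).imp (hQiff b d s hs hd).2 (hQiff b' d' s' hs' hd').2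
  have hmaxA : ∀ (c : A) r, ∀ s ∈ p.primeCompl, algebraMap A K c * algebraMap A0 K s = algebraMap A0 K r →
      (c ∈ maximalIdeal A ↔ r ∈ p) := by
    intro c r s hs hrs
    have h1 : c * algebraMap A0 A s = algebraMap A0 A r := IsFractionRing.injective A K (by
      rw [map_mul, ← IsScalarTower.algebraMap_apply, ← IsScalarTower.algebraMap_apply, hrs])
    rw [← IsLocalization.AtPrime.to_map_mem_maximal_iff A p r, ← h1]
    refine ⟨fun hc => Ideal.mul_mem_right _ _ hc, fun hc => ((maximalIdeal.isMaximal A).isPrime.mem_or_mem hc).resolve_right ?_⟩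
    exact fun hs' => hs ((IsLocalization.AtPrime.to_map_mem_maximal_iff A p s).1 hs')
  have hQm : Q.comap (algebraMap A B) = maximalIdeal A := by
    ext c
    obtain ⟨r, s, hs, hrs⟩ := hAsurj c
    rw [Ideal.mem_comap, hQiff _ (a.hom r) s hs (by rw [hφa']; exact hrs), ← hPzp, hmaxA c r s hs hrs]
  have huniq : ∀ Q' : Ideal B, Q'.IsPrime → Q'.comap (algebraMap A B) = maximalIdeal A → Q' = Q := by
    intro Q' hQ' hQ'm
    let φB : Γ(pullback pX pY, D) →+* B := φ.hom.codRestrict B fun d => Algebra.subset_adjoin ⟨d, rfl⟩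
    let qq : PrimeSpectrum Γ(pullback pX pY, D) := ⟨Q'.comap φB, hQ'.comap _⟩
    have hunit : ∀ s : A0, s ∈ p.primeCompl → algebraMap A B (algebraMap A0 A s) ∉ Q' := fun s hs hmem =>
      hs ((IsLocalization.AtPrime.to_map_mem_maximal_iff A p s).1 (hQ'm ▸ hmem))
    have hqp : ∀ r, a.hom r ∈ qq.asIdeal ↔ r ∈ p := fun r => by
      have h1 : φB (a.hom r) = algebraMap A B (algebraMap A0 A r) := Subtype.ext (by
        show φ.hom (a.hom r) = algebraMap A K (algebraMap A0 A r)
        rw [hφa', ← IsScalarTower.algebraMap_apply])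
      show φB (a.hom r) ∈ Q' ↔ _
      rw [h1, ← Ideal.mem_comap, hQ'm, IsLocalization.AtPrime.to_map_mem_maximal_iff A p]
    let w := hD.fromSpec qq
    have hwD : w ∈ D := hD.range_fromSpec.le ⟨qq, rfl⟩
    have hfw : fst w = x := by
      have h1 := IsAffineOpen.SpecMap_appLE_fromSpec fst hV0 hD hle
      have h2 := congr($h1.symm qq)
      rw [Scheme.Hom.comp_apply, Scheme.Hom.comp_apply] at h2
      rw [h2, show Spec.map (fst.appLE V0 D hle) qq = hV0.primeIdealOf ⟨x, hxV0⟩ from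
        PrimeSpectrum.ext (SetLike.ext hqp), hV0.fromSpec_primeIdealOf]
    have hγw : γ ⤳ w := by
      have h1 : Spec.map φ (closedPoint K) ⤳ qq := (PrimeSpectrum.le_iff_specializes _ _).1 fun d hd => by
        have hd0 : φ.hom d = 0 := by
          have : φ.hom d ∈ maximalIdeal K := hd
          rwa [IsLocalRing.maximalIdeal_eq_bot, Ideal.mem_bot] at this
        show φB d ∈ Q'
        rw [show φB d = 0 from Subtype.ext hd0]; exact zero_mem _
      have h2 := h1.map hD.fromSpec.continuous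
      rwa [← Scheme.Hom.comp_apply, hφ] at h2
    have hwz := hW w (hDW hwD).1 (closure_mono (Set.singleton_subset_iff.2 hγ) hγw.mem_closure) hfw
    have hqz : qq = hD.primeIdealOf ⟨z, hzD⟩ := hD.fromSpec.isOpenEmbedding.injective (by
      rw [hD.fromSpec_primeIdealOf]; exact hwz)
    ext b
    obtain ⟨d, s, hs, hd⟩ := hBrep b b.2
    rw [hQiff b d s hs hd, show Pz = qq.asIdeal by rw [hqz]]
    have h1 : b * algebraMap A B (algebraMap A0 A s) = φB d := Subtype.ext (by
      show (b : K) * algebraMap A K (algebraMap A0 A s) = φ.hom d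
      rw [← IsScalarTower.algebraMap_apply, hd])
    show b ∈ Q' ↔ φB d ∈ Q'
    rw [← h1]
    exact ⟨fun hb => Ideal.mul_mem_right _ _ hb, fun hb => (hQ'.mem_or_mem hb).resolve_right (hunit s hs)⟩
  have hbot := subalgebra_eq_bot B hBfg Q hQm huniq
  -- the local morphism
  have hφA : ∀ d, ∃ c : A, algebraMap A K c = φ.hom d := fun d =>
    Algebra.mem_bot.1 (hbot ▸ Algebra.subset_adjoin ⟨d, rfl⟩)
  choose θ hθ using hφA
  let ρ : Γ(pullback pX pY, D) →+* A :=
    { toFun := θ
      map_one' := IsFractionRing.injective A K (by simp [hθ])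
      map_mul' := fun b b' => IsFractionRing.injective A K (by simp [hθ])
      map_zero' := IsFractionRing.injective A K (by simp [hθ])
      map_add' := fun b b' => IsFractionRing.injective A K (by simp [hθ]) }
  let ρx : Γ(pullback pX pY, D) ⟶ X.presheaf.stalk x := CommRingCat.ofHom (e.toRingEquiv.toRingHom.comp ρ)
  let κ : X.presheaf.stalk x ⟶ CommRingCat.of K :=
    CommRingCat.ofHom ((algebraMap A K).comp e.symm.toRingEquiv.toRingHom)
  have hρκ : ρx ≫ κ = φ := CommRingCat.hom_ext (RingHom.ext fun d => by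
    show algebraMap A K (e.symm (e (ρ d))) = φ.hom d
    rw [e.symm_apply_apply]; exact hθ d)
  have haρ : a ≫ ρx = X.presheaf.germ V0 x hxV0 := CommRingCat.hom_ext (RingHom.ext fun r => by
    show e (ρ (a.hom r)) = algebraMap A0 (X.presheaf.stalk x) r
    rw [← e.commutes r]
    congr 1
    exact IsFractionRing.injective A K (by
      show algebraMap A K (θ (a.hom r)) = _
      rw [hθ, hφa', ← IsScalarTower.algebraMap_apply]))
  have hκ : Spec.map κ ≫ X.fromSpecStalk x = ιη := by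
    rw [← hV0.fromSpecStalk_eq_fromSpecStalk hxV0, IsAffineOpen.fromSpecStalk, ← Spec.map_comp_assoc]
    congr 2
    exact CommRingCat.hom_ext (RingHom.ext fun r => by
      show algebraMap A K (e.symm (algebraMap A0 (X.presheaf.stalk x) r)) = algebraMap A0 K r
      rw [e.symm.commutes, ← IsScalarTower.algebraMap_apply])
  let t : Spec (X.presheaf.stalk x) ⟶ Y := Spec.map ρx ≫ hD.fromSpec ≫ pullback.snd pX pY
  have ht : t ≫ pY = X.fromSpecStalk x ≫ pX := by
    rw [Category.assoc, Category.assoc, ← pullback.condition,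
      ← reassoc_of% IsAffineOpen.SpecMap_appLE_fromSpec fst hV0 hD hle, ← Spec.map_comp_assoc, haρ,
      ← hV0.fromSpecStalk_eq_fromSpecStalk hxV0, IsAffineOpen.fromSpecStalk, Category.assoc]
  haveI : X.IsGermInjectiveAt x := inferInstanceAs (X.IsGermInjectiveAt (W0.ι ⟨x, hx0⟩))
  obtain ⟨U', hxU', v', hv1, hv2⟩ := spread_out_of_isGermInjective' pX pY t ht
  let V := U' ⊓ V0
  refine ⟨V, X.homOfLE inf_le_left ≫ v', ⟨hxU', hxV0⟩, by
    rw [Category.assoc, hv2, ← Category.assoc, Scheme.homOfLE_ι], ?_, ?_⟩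
  swap
  · -- the value at the point
    intro w hw
    have h1 : X.homOfLE (inf_le_left : V ≤ U') w = U'.fromSpecStalkOfMem x hxU' (closedPoint _) :=
      U'.ι.isEmbedding.injective (by
        rw [← Scheme.Hom.comp_apply, ← Scheme.Hom.comp_apply, Scheme.homOfLE_ι, Scheme.Opens.fromSpecStalkOfMem_ι,
          Scheme.fromSpecStalk_closedPoint]
        exact hw)
    rw [Scheme.Hom.comp_apply, h1, ← Scheme.Hom.comp_apply, ← hv1, Scheme.Hom.comp_apply, Scheme.Hom.comp_apply]
    congr 1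
    refine Eq.trans (congrArg hD.fromSpec ?_) (hD.fromSpec_primeIdealOf ⟨z, hzD⟩)
    refine PrimeSpectrum.ext (SetLike.ext fun d => ?_)
    have hb := hQiff ⟨φ.hom d, Algebra.subset_adjoin ⟨d, rfl⟩⟩ d 1 (Submonoid.one_mem _) (by simp)
    rw [show (⟨φ.hom d, Algebra.subset_adjoin ⟨d, rfl⟩⟩ : B) = algebraMap A B (θ d) from Subtype.ext (hθ d).symm,
      ← Ideal.mem_comap, hQm] at hb
    refine Iff.trans ?_ hb
    show e (ρ d) ∈ maximalIdeal (X.presheaf.stalk x) ↔ θ d ∈ maximalIdeal A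
    rw [mem_maximalIdeal, mem_maximalIdeal, mem_nonunits_iff, mem_nonunits_iff]
    exact not_congr (MulEquiv.isUnit_map e.toRingEquiv.toMulEquiv)
  -- agreement
  have hηV : η ∈ V := ⟨(hηgen x hxV0).mem_open U'.isOpen hxU', hηV0⟩
  haveI : Nonempty ((U ⊓ V : X.Opens) : Scheme.{u}) := ⟨⟨η, hηU, hηV⟩⟩
  haveI : AlgebraicGeometry.IsIntegral ((U ⊓ V : X.Opens) : Scheme.{u}) :=
    isIntegral_of_isOpenImmersion (X.homOfLE (show U ⊓ V ≤ V0 from fun w hw => hw.2.2))
  let τ := IsOpenImmersion.lift (U ⊓ V).ι ιη (by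
    rintro _ ⟨w, rfl⟩
    rw [Scheme.Opens.range_ι, Subsingleton.elim w (closedPoint K)]
    exact ⟨hηU, hηV⟩)
  have hτ : τ ≫ (U ⊓ V).ι = ιη := IsOpenImmersion.lift_fac _ _ _
  haveI : IsDominant τ := ⟨by
    refine dense_iff_closure_eq.2 (Set.eq_univ_of_forall fun w => ?_)
    have hsp : τ (closedPoint K) ⤳ w := (U ⊓ V).ι.isEmbedding.isInducing.specializes_iff.1 (by
      rw [← Scheme.Hom.comp_apply, hτ]; exact hηgen _ w.2.2.2)
    exact closure_mono (Set.singleton_subset_iff.2 (Set.mem_range_self (f := (τ : _ → _)) (closedPoint K))) hsp.mem_closure⟩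
  refine ext_of_isDominant_of_isSeparated pY ?_ τ ?_
  · rw [Category.assoc, Category.assoc, hv2, Category.assoc, ← hh, ← Category.assoc, ← Category.assoc,
      ← Category.assoc, Scheme.homOfLE_homOfLE, Scheme.homOfLE_ι, Scheme.homOfLE_ι]
  · have h1 : τ ≫ X.homOfLE (inf_le_left : U ⊓ V ≤ U) = σ0 := by
      rw [← cancel_mono U.ι, Category.assoc, Scheme.homOfLE_ι, hτ, hσ0]
    have h2 : τ ≫ X.homOfLE (inf_le_right : U ⊓ V ≤ V) ≫ X.homOfLE (inf_le_left : V ≤ U') =
        Spec.map κ ≫ U'.fromSpecStalkOfMem x hxU' := by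
      rw [← cancel_mono U'.ι, Category.assoc, Category.assoc, Scheme.homOfLE_ι, Scheme.homOfLE_ι, hτ,
        Category.assoc, Scheme.Opens.fromSpecStalkOfMem_ι, hκ]
    rw [reassoc_of% h1, ← Category.assoc, ← Category.assoc, Category.assoc τ, h2, Category.assoc, ← hv1,
      ← Spec.map_comp_assoc, hρκ, reassoc_of% hφ]
    show (σ0 ≫ hg) ≫ pullback.snd pX pY = σ0 ≫ h
    rw [Category.assoc, pullback.lift_snd]

end Groth.Agent.NormalExt
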