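import Groth.Agent.NormalExt.Basic

/-!
# Extending sections at a normal point
-/

set_option autoImplicit false
set_option backward.isDefEq.respectTransparency.types false
set_option linter.style.haveILetI false
universe u

open AlgebraicGeometry CategoryTheory CategoryTheory.Limits TopologicalSpace IsLocalRing

namespace Groth.Agent.NormalExt

variable {X Y : Scheme.{u}}

theorem exists_integral_nhd (x : X) [X.IsGermInjectiveAt x] [IsDomain (X.presheaf.stalk x)] :
    ∃ W0 : X.Opens, x ∈ W0 ∧ AlgebraicGeometry.IsIntegral (W0 : Scheme.{u}) := by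
  obtain ⟨U, hxU, hU, hinj⟩ := X.exists_germ_injective x
  haveI : Nonempty (U : Scheme.{u}) := ⟨⟨x, hxU⟩⟩
  haveI : IsDomain Γ(X, U) := Function.Injective.isDomain (X.presheaf.germ U x hxU).hom hinj
  haveI : AlgebraicGeometry.IsIntegral (Spec Γ(X, U)) := inferInstance
  exact ⟨U, hxU, isIntegral_of_isOpenImmersion hU.isoSpec.hom⟩

/-- a section extends at a normal point isolated in the fibre of the closure of the section -/
theorem exists_section_extension (q : Y ⟶ X) [LocallyOfFiniteType q] [IsSeparated q] (W0 : X.Opens)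
    [AlgebraicGeometry.IsIntegral (W0 : Scheme.{u})] (U : X.Opens)
    (h : (U : Scheme.{u}) ⟶ Y) (hh : h ≫ q = U.ι) (y : Y) (hy0 : q y ∈ W0)
    (hx : IsIntegrallyClosed (X.presheaf.stalk (q y))) (hy : y ∈ closure (Set.range h))
    (hiso : ∃ W : Y.Opens, y ∈ W ∧ ∀ w ∈ W, w ∈ closure (Set.range h) → q w = q y → w = y) :
    ∃ (V : X.Opens) (v : (V : Scheme.{u}) ⟶ Y), q y ∈ V ∧ v ≫ q = V.ι ∧
      X.homOfLE (inf_le_right : U ⊓ V ≤ V) ≫ v = X.homOfLE (inf_le_left : U ⊓ V ≤ U) ≫ h ∧
      ∀ w : (V : Scheme.{u}), V.ι w = q y → v w = y := by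
  let s := pullback.lift (f := 𝟙 X) (g := q) q (𝟙 Y) (by rw [Category.comp_id, Category.id_comp])
  have hsfst : pullback.fst (𝟙 X) q (s y) = q y := by rw [← Scheme.Hom.comp_apply, pullback.lift_fst]
  have hssnd : pullback.snd (𝟙 X) q (s y) = y := by
    rw [← Scheme.Hom.comp_apply, pullback.lift_snd]; rfl
  have hh' : U.ι ≫ 𝟙 X = h ≫ q := by rw [Category.comp_id, hh]
  have hfw : ∀ w, pullback.fst (𝟙 X) q w = q (pullback.snd (𝟙 X) q w) := fun w => by
    rw [← Scheme.Hom.comp_apply, ← pullback.condition (f := 𝟙 X) (g := q), Category.comp_id]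
  have hrange : ∀ w, w ∈ closure (Set.range (pullback.lift U.ι h hh')) → pullback.snd (𝟙 X) q w ∈ closure (Set.range h) := by
    intro w hw
    have := image_closure_subset_closure_image (pullback.snd (𝟙 X) q).continuous ⟨w, hw, rfl⟩
    refine closure_mono ?_ this
    rintro _ ⟨_, ⟨u, rfl⟩, rfl⟩
    exact ⟨u, by rw [← Scheme.Hom.comp_apply, pullback.lift_snd]⟩
  have hz : s y ∈ closure (Set.range (pullback.lift U.ι h hh')) := by
    have := image_closure_subset_closure_image s.continuous ⟨y, hy, rfl⟩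
    refine closure_mono ?_ this
    rintro _ ⟨_, ⟨u, rfl⟩, rfl⟩
    refine ⟨u, ?_⟩
    rw [← Scheme.Hom.comp_apply]
    refine congrArg (fun m : (U : Scheme.{u}) ⟶ pullback (𝟙 X) q => m u) ?_
    apply pullback.hom_ext
    · rw [pullback.lift_fst, Category.assoc, pullback.lift_fst, hh]
    · rw [pullback.lift_snd, Category.assoc, pullback.lift_snd, Category.comp_id]
  obtain ⟨W, hyW, hW⟩ := hiso
  obtain ⟨V, v, h1, h2, h3, h4⟩ := exists_extension (𝟙 X) q W0 U h hh' (s y) (by rw [hsfst]; exact hy0)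
    (by rw [hsfst]; exact hx) hz ⟨pullback.snd (𝟙 X) q ⁻¹ᵁ W, show pullback.snd (𝟙 X) q (s y) ∈ W by rw [hssnd]; exact hyW,
      fun w hw hwc hwx => (pullback.snd (𝟙 X) q).isEmbedding.injective (by
        rw [hssnd]
        exact hW _ hw (hrange w hwc) (by rw [← hfw, hwx, hsfst]))⟩
  refine ⟨V, v, hsfst ▸ h1, by rw [h2, Category.comp_id], h3, fun w hw => ?_⟩
  rw [h4 w (hw.trans hsfst.symm), hssnd]

end Groth.Agent.NormalExt
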